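import Mathlib
import Cfsg.Agent.Lib.Helper31.Siegel.Defs

/-!
# Project Siegel (S5072): package PARAM

The elements of `T p r` are exactly the Siegel transvections of the singular line `⟨p, r⟩`.
-/

set_option autoImplicit false
open scoped Matrix

namespace Cfsg.Agent.Lib.Helper16.Siegel

open Cfsg.Agent.Lib.Helper31.Siegel

universe u

section

variable {n : ℕ} {F : Type u} [Field F]

theorem sing_Bpr {p r : Vec n F} (h : IsSingLine p r) : B p r = 0 := by
  obtain ⟨_, hp, hr, hpr⟩ := h
  unfold B
  rw [hpr, hp, hr]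
  ring

theorem sing_Brp {p r : Vec n F} (h : IsSingLine p r) : B r p = 0 := by
  rw [B_comm, sing_Bpr h]

theorem sing_Bpp {p r : Vec n F} (h : IsSingLine p r) : B p p = 0 := by
  rw [B_self, h.2.1]
  ring

theorem sing_Brr {p r : Vec n F} (h : IsSingLine p r) : B r r = 0 := by
  rw [B_self, h.2.2.1]
  ring

theorem sing_indep {p r : Vec n F} (h : IsSingLine p r) (a b : F) (hab : a • p + b • r = 0) :
    a = 0 ∧ b = 0 := by
  have h1 := h.1
  rw [LinearIndependent.pair_iff] at h1
  exact h1 a b hab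

theorem exists_B_eq_one {u : Vec n F} (hu : u ≠ 0) : ∃ v : Vec n F, B u v = 1 := by
  by_contra hcon
  push Not at hcon
  apply hu
  apply eq_zero_of_B
  intro v
  by_contra hv
  apply hcon ((B u v)⁻¹ • v)
  rw [B_smul_right, inv_mul_cancel₀ hv]

/-- Dual vectors of a singular line. -/
theorem exists_dual_pair {p r : Vec n F} (h : IsSingLine p r) :
    ∃ ps rs : Vec n F, B p ps = 1 ∧ B r ps = 0 ∧ B p rs = 0 ∧ B r rs = 1 := by
  have hp : p ≠ 0 := by
    intro h0
    have h1 := sing_indep h 1 0 (by rw [h0]; simp)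
    exact one_ne_zero h1.1
  obtain ⟨v1, hv1⟩ := exists_B_eq_one hp
  have hr' : r - (B r v1) • p ≠ 0 := by
    intro h0
    have h1 := sing_indep h (-(B r v1)) 1 (by rw [← h0]; module)
    exact one_ne_zero h1.2
  obtain ⟨v2, hv2⟩ := exists_B_eq_one hr'
  have h1 : B p (v2 - (B p v2) • v1) = 0 := by
    rw [B_sub_right, B_smul_right, hv1]
    ring
  have h2 : B r (v2 - (B p v2) • v1) = 1 := by
    rw [B_sub_left, B_smul_left] at hv2
    rw [B_sub_right, B_smul_right]
    linear_combination hv2
  refine ⟨v1 - (B r v1) • (v2 - (B p v2) • v1), v2 - (B p v2) • v1, ?_, ?_, h1, h2⟩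
  · rw [B_sub_right, B_smul_right, h1, hv1]
    ring
  · rw [B_sub_right, B_smul_right, h2]
    ring

theorem Q_add_line {p r : Vec n F} (h : IsSingLine p r) (z : Vec n F) (a b : F) :
    QF n F (z + (a • p + b • r)) = QF n F z + a * B z p + b * B z r := by
  simp only [Q_add, Q_smul, B_add_right, B_smul_right, B_smul_left, h.2.1, h.2.2.1, sing_Bpr h]
  ring

/-- An isometry fixing `⟨p, r⟩^⊥` pointwise is a Siegel transvection. -/
theorem siegel_of_fixSet {p r : Vec n F} (h : IsSingLine p r) {σ : ↥(Iso n F)}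
    (hσ : σ ∈ fixSet p r) : ∃ c : F, IsSiegel p r c σ := by
  rw [mem_fixSet] at hσ
  obtain ⟨ps, rs, h1, h2, h3, h4⟩ := exists_dual_pair h
  have hpr := sing_Bpr h
  have hrp := sing_Brp h
  have hpp := sing_Bpp h
  have hrr := sing_Brr h
  have hperp1 : ∀ v : Vec n F, B (v - B v p • ps - B v r • rs) p = 0 := by
    intro v
    rw [B_sub_left, B_sub_left, B_smul_left, B_smul_left, B_comm ps p, B_comm rs p, h1, h3]
    ring
  have hperp2 : ∀ v : Vec n F, B (v - B v p • ps - B v r • rs) r = 0 := by
    intro v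
    rw [B_sub_left, B_sub_left, B_smul_left, B_smul_left, B_comm ps r, B_comm rs r, h2, h4]
    ring
  have hdec : ∀ v : Vec n F, mat σ *ᵥ v =
      v + B v p • (mat σ *ᵥ ps - ps) + B v r • (mat σ *ᵥ rs - rs) := by
    intro v
    have hv0 := hσ _ (hperp1 v) (hperp2 v)
    rw [Matrix.mulVec_sub, Matrix.mulVec_sub, Matrix.mulVec_smul, Matrix.mulVec_smul] at hv0
    have h5 : mat σ *ᵥ v = (mat σ *ᵥ v - B v p • mat σ *ᵥ ps - B v r • mat σ *ᵥ rs)
        + B v p • mat σ *ᵥ ps + B v r • mat σ *ᵥ rs := by module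
    rw [h5, hv0]
    module
  have hx : ∀ (z w : Vec n F), B w p = 0 → B w r = 0 → B (mat σ *ᵥ z - z) w = 0 := by
    intro z w hw1 hw2
    have h5 := B_act σ z w
    rw [hσ w hw1 hw2] at h5
    rw [B_sub_left, h5]
    ring
  have hspan : ∀ z : Vec n F, mat σ *ᵥ z =
      z + (B (mat σ *ᵥ z - z) ps • p + B (mat σ *ᵥ z - z) rs • r) := by
    intro z
    have h5 : (mat σ *ᵥ z - z) -
        (B (mat σ *ᵥ z - z) ps • p + B (mat σ *ᵥ z - z) rs • r) = 0 := by
      apply eq_zero_of_B
      intro v
      have hv0 := hx z _ (hperp1 v) (hperp2 v)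
      generalize mat σ *ᵥ z - z = x at hv0 ⊢
      rw [B_sub_right, B_sub_right, B_smul_right, B_smul_right] at hv0
      rw [B_sub_left, B_add_left, B_smul_left, B_smul_left, B_comm p v, B_comm r v]
      linear_combination hv0
    have h6 := sub_eq_zero.mp h5
    rw [← h6]
    module
  have hps := hspan ps
  have hrs := hspan rs
  generalize B (mat σ *ᵥ ps - ps) ps = x1 at hps
  generalize B (mat σ *ᵥ ps - ps) rs = x2 at hps
  generalize B (mat σ *ᵥ rs - rs) ps = y1 at hrs
  generalize B (mat σ *ᵥ rs - rs) rs = y2 at hrs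
  have hx1 : x1 = 0 := by
    have h5 := Q_act σ ps
    rw [hps, Q_add_line h, B_comm ps p, B_comm ps r, h1, h2] at h5
    linear_combination h5
  have hy2 : y2 = 0 := by
    have h5 := Q_act σ rs
    rw [hrs, Q_add_line h, B_comm rs p, B_comm rs r, h3, h4] at h5
    linear_combination h5
  have hxy : y1 + x2 = 0 := by
    have h5 := B_act σ ps rs
    rw [hps, hrs] at h5
    simp only [B_add_left, B_add_right, B_smul_left, B_smul_right, hpr, hrp, hpp, hrr,
      B_comm ps p, B_comm ps r, h1, h2, h3, h4] at h5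
    linear_combination h5
  refine ⟨y1, fun v => ?_⟩
  rw [hdec v, hps, hrs, hx1, hy2]
  have hx2 : x2 = -y1 := by linear_combination hxy
  rw [hx2]
  module

end

/-- [PARAM] the elements of `T p r` are exactly the Siegel transvections. -/
theorem pkgParam : PkgParam.{u} := by
  intro n F _ p r h σ
  have hpr := sing_Bpr h
  have hrp := sing_Brp h
  have hpp := sing_Bpp h
  have hrr := sing_Brr h
  constructor
  · intro hσ
    unfold T at hσ
    induction hσ using Subgroup.closure_induction with
    | mem x hx => exact siegel_of_fixSet h hx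
    | one => exact ⟨0, fun v => by rw [one_act]; simp⟩
    | mul x y _ _ ihx ihy =>
      obtain ⟨c, hc⟩ := ihx
      obtain ⟨d, hd⟩ := ihy
      refine ⟨c + d, fun v => ?_⟩
      rw [mul_act, hd v, hc]
      simp only [B_add_left, B_sub_left, B_smul_left, hpr, hrp, hpp, hrr]
      module
    | inv x _ ih =>
      obtain ⟨c, hc⟩ := ih
      refine ⟨-c, fun v => ?_⟩
      have h1 := hc (mat x⁻¹ *ᵥ v)
      rw [act_inv] at h1
      generalize mat x⁻¹ *ᵥ v = w at h1 ⊢
      have h2 : B v r = B w r := by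
        rw [h1]
        simp only [B_add_left, B_sub_left, B_smul_left, hpr, hrr]
        ring
      have h3 : B v p = B w p := by
        rw [h1]
        simp only [B_add_left, B_sub_left, B_smul_left, hpp, hrp]
        ring
      rw [h2, h3]
      calc w = (w + (c * B w r) • p - (c * B w p) • r) + (-c * B w r) • p
              - (-c * B w p) • r := by module
        _ = v + (-c * B w r) • p - (-c * B w p) • r := by rw [← h1]
  · rintro ⟨c, hc⟩
    apply Subgroup.subset_closure
    rw [mem_fixSet]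
    intro v hv1 hv2
    rw [hc v, hv1, hv2]
    simp

end Cfsg.Agent.Lib.Helper16.Siegel
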